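/-
Finite reduced algebras over an algebraically closed field: the basis of idempotents dual to the points.
-/
import Mathlib

set_option autoImplicit false

universe u v

namespace Groth.Agent.FinPts

theorem exists_basis (k : Type u) [Field k] [IsAlgClosed k] (E : Type v) [CommRing E] [Algebra k E]
    [FiniteDimensional k E] [IsReduced E] [DecidableEq (E →ₐ[k] k)] :
    ∃ b : Module.Basis (E →ₐ[k] k) k E, (∀ χ ψ : E →ₐ[k] k, χ (b ψ) = if χ = ψ then 1 else 0) ∧
      Finite (E →ₐ[k] k) ∧ Nat.card (E →ₐ[k] k) = Module.finrank k E := by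
  haveI : IsArtinianRing E := IsArtinianRing.of_finite k E
  let ev : E →ₐ[k] ((E →ₐ[k] k) → k) := Pi.algHom k _ fun χ => χ
  have hinj : Function.Injective ev := by
    rw [injective_iff_map_eq_zero]
    intro a ha
    apply IsNilpotent.eq_zero (R := E)
    rw [nilpotent_iff_mem_prime]
    intro P hP
    haveI := hP.isMaximal'
    let : Field (E ⧸ P) := Ideal.Quotient.field P
    haveI : Algebra.IsIntegral k (E ⧸ P) := Algebra.IsIntegral.of_finite k _
    let e : k ≃ₐ[k] (E ⧸ P) := AlgEquiv.ofBijective (Algebra.ofId k _)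
      (IsAlgClosed.algebraMap_bijective_of_isIntegral)
    have h := congrFun ha (e.symm.toAlgHom.comp (Ideal.Quotient.mkₐ k P))
    exact Ideal.Quotient.eq_zero_iff_mem.1 (e.symm.injective (h.trans (map_zero e.symm).symm))
  have hli := linearIndependent_algHom_toLinearMap k E k
  haveI : Finite (E →ₐ[k] k) := hli.finite
  haveI := Fintype.ofFinite (E →ₐ[k] k)
  have hcard : Module.finrank k ((E →ₐ[k] k) → k) ≤ Module.finrank k E := by
    rw [Module.finrank_fintype_fun_eq_card]
    refine hli.fintype_card_le_finrank.trans ?_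
    rw [Module.finrank_linearMap, Module.finrank_self, mul_one]
  have heq := le_antisymm (LinearMap.finrank_le_finrank_of_injective (f := ev.toLinearMap) hinj) hcard
  have hbij : Function.Bijective ev :=
    ⟨hinj, (LinearMap.injective_iff_surjective_of_finrank_eq_finrank (f := ev.toLinearMap) heq).1 hinj⟩
  let eE := AlgEquiv.ofBijective ev hbij
  refine ⟨(Pi.basisFun k _).map eE.symm.toLinearEquiv, fun χ ψ => ?_, inferInstance, ?_⟩
  · have h := congrFun (eE.apply_symm_apply (Pi.single ψ (1 : k))) χ
    simp only [Module.Basis.map_apply, Pi.basisFun_apply]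
    refine h.trans ?_
    simp [Pi.single_apply]
  · rw [Nat.card_eq_fintype_card, ← Module.finrank_fintype_fun_eq_card k, heq]

end Groth.Agent.FinPts
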